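import Groth.Agent.FibEmbLib.DimConstr
import Groth.Agent.EtAlgEasy.EquidimLocus
import Groth.Agent.FlatDim.Trdeg
import Groth.Agent.FibreDepth.Retro
import Mathlib

/-!
The dimensions of the irreducible components of the fibres of a constructible set (EGA IV 9.8.5).
-/

set_option autoImplicit false
set_option linter.style.haveILetI false
set_option backward.isDefEq.respectTransparency false
set_option maxHeartbeats 800000

universe u

open CategoryTheory AlgebraicGeometry Topology TopologicalSpace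

namespace Groth.Agent.FibCompDimLib

open Groth.Agent.OpenDim Groth.Agent.FibreDepth

variable {X Y : Scheme.{u}}

/-- `x` is maximal for generization among the points of `Z` in its fibre. -/
def MaxOn (f : X ⟶ Y) (Z : Set X) (x : X) : Prop :=
  x ∈ Z ∧ ∀ w ∈ Z, f w = f x → w ⤳ x → w = x

theorem trd_preimmersion_comp {W : Scheme.{u}} (g : W ⟶ X) [IsPreimmersion g] (f : X ⟶ Y)
    [LocallyOfFiniteType f] [LocallyOfFiniteType (g ≫ f)] (z : W) : trd (g ≫ f) z = trd f (g z) := by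
  have h := (FlatDim.resTrdegAt_comp g f z).trans
    (by rw [FlatDim.resTrdegAt_preimmersion g z, add_zero])
  rw [resTrdegAt_eq_trd, resTrdegAt_eq_trd] at h
  exact_mod_cast h

theorem exists_maxOn_le (f : X ⟶ Y) [LocallyOfFiniteType f] {Z : Set X} {x : X} (hx : x ∈ Z) :
    ∃ x₀, MaxOn f Z x₀ ∧ x₀ ⤳ x ∧ f x₀ = f x := by
  obtain ⟨ζ, -, -, -, hdim⟩ := exists_maxInFibre_fibreDimAt f x
  suffices H : ∀ n (x' : X), trd f ζ ≤ trd f x' + n → x' ∈ Z → x' ⤳ x → f x' = f x →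
      ∃ x₀, MaxOn f Z x₀ ∧ x₀ ⤳ x ∧ f x₀ = f x from
    H (trd f ζ) x (Nat.le_add_left _ _) hx (specializes_refl x) rfl
  intro n
  induction n with
  | zero =>
    intro x' hle hx' hs hf
    refine ⟨x', ⟨hx', fun w hw hfw hwx => ?_⟩, hs, hf⟩
    by_contra hne
    have h1 := trd_lt f hwx hne hfw
    have h2 := trd_le_fibreDimAt f (hfw.trans hf) (hwx.trans hs)
    rw [hdim] at h2
    have h3 : trd f w ≤ trd f ζ := by exact_mod_cast h2
    omega
  | succ n ih =>
    intro x' hle hx' hs hf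
    by_cases h : MaxOn f Z x'
    · exact ⟨x', h, hs, hf⟩
    · simp only [MaxOn, not_and, not_forall] at h
      obtain ⟨w, hw, hfw, hwx, hne⟩ := h hx'
      have h1 := trd_lt f hwx hne hfw
      exact ih w (by omega) hw (hwx.trans hs) (hfw.trans hf)

/-- The affine case. -/
theorem isConstructible_maxOn_trd {A B : CommRingCat.{u}} (v : Spec B ⟶ Spec A) [LocallyOfFinitePresentation v]
    {Z : Set (Spec B)} (hZ : IsConstructible Z) (k : ℕ) :
    IsConstructible {p : Spec A | ∃ x, MaxOn v Z x ∧ v x = p ∧ trd v x = k} := by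
  obtain ⟨D, hD⟩ := PrimeSpectrum.exists_constructibleSetData_iff.2 hZ
  have hpiece : ∀ C : PrimeSpectrum.BasicConstructibleSetData B, ∃ T : Set (Spec B), IsConstructible T ∧
      (∀ x ∈ C.toSet, k < trd v x → x ∈ T) ∧
      (∀ x ∈ T, ∃ w ∈ C.toSet, w ⤳ x ∧ v w = v x ∧ k < trd v w) := by
    intro C
    let I := Ideal.span (Set.range C.g)
    let f₁ : B ⧸ I := Ideal.Quotient.mk I C.f
    let C' := Localization.Away f₁
    let π : B →+* C' := (algebraMap (B ⧸ I) C').comp (Ideal.Quotient.mk I)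
    have hπ : π.FinitePresentation :=
      (RingHom.finitePresentation_algebraMap.2 (IsLocalization.Away.finitePresentation f₁)).comp
        (RingHom.FinitePresentation.of_surjective _ Ideal.Quotient.mk_surjective
          (by rw [Ideal.mk_ker]; exact Submodule.fg_span (Set.finite_range C.g)))
    have hrange : Set.range (PrimeSpectrum.comap π) = C.toSet := by
      rw [show (PrimeSpectrum.comap π : PrimeSpectrum C' → PrimeSpectrum B) =
        PrimeSpectrum.comap (Ideal.Quotient.mk I) ∘ PrimeSpectrum.comap (algebraMap (B ⧸ I) C') from rfl,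
        Set.range_comp, PrimeSpectrum.localization_away_comap_range C' f₁]
      ext q
      rw [PrimeSpectrum.BasicConstructibleSetData.toSet]
      constructor
      · rintro ⟨r, hr, rfl⟩
        refine ⟨?_, fun h => hr ?_⟩
        · rw [PrimeSpectrum.mem_zeroLocus, ← Ideal.span_le]
          intro a ha
          show Ideal.Quotient.mk I a ∈ r.asIdeal
          rw [Ideal.Quotient.eq_zero_iff_mem.2 ha]
          exact zero_mem _
        · have h2 : C.f ∈ (PrimeSpectrum.comap (Ideal.Quotient.mk I) r).asIdeal := Set.singleton_subset_iff.1 h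
          exact h2
      · rintro ⟨hg, hf⟩
        obtain ⟨r, rfl⟩ : q ∈ Set.range (PrimeSpectrum.comap (Ideal.Quotient.mk I)) := by
          rw [range_comap_of_surjective _ _ Ideal.Quotient.mk_surjective, Ideal.mk_ker, PrimeSpectrum.mem_zeroLocus]
          exact Ideal.span_le.2 hg
        exact ⟨r, fun h => hf (Set.singleton_subset_iff.2 h), rfl⟩
    let g₂ : Spec (CommRingCat.of C') ⟶ Spec (CommRingCat.of (B ⧸ I)) :=
      Spec.map (CommRingCat.ofHom (algebraMap (B ⧸ I) C'))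
    let g₁ : Spec (CommRingCat.of (B ⧸ I)) ⟶ Spec B := Spec.map (CommRingCat.ofHom (Ideal.Quotient.mk I))
    haveI : IsOpenImmersion g₂ := IsOpenImmersion.of_isLocalization f₁
    haveI : IsClosedImmersion g₁ := IsClosedImmersion.spec_of_surjective _ Ideal.Quotient.mk_surjective
    let g := g₂ ≫ g₁
    have hg : g = Spec.map (CommRingCat.ofHom π) := by rw [CommRingCat.ofHom_comp, Spec.map_comp]
    haveI : LocallyOfFinitePresentation g := by
      rw [hg, HasRingHomProperty.Spec_iff (P := @LocallyOfFinitePresentation)]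
      exact hπ
    have hcomap : ∀ z, g z = PrimeSpectrum.comap π z := fun z => by rw [hg]; rfl
    let T₀ : Set (Spec (CommRingCat.of C')) := {z | FlatMor.fibreDimAt (g ≫ v) z ≤ (k : WithBot ℕ∞)}ᶜ
    have hT₀ : IsConstructible T₀ := by
      refine IsLocallyConstructible.isConstructible ?_
      refine isLocallyConstructible_of_embeddings _ fun z => ?_
      obtain ⟨𝔐, hz⟩ := exists_model_self (g ≫ v) z
      exact ⟨𝔐.B, 𝔐.commB, 𝔐.emb, 𝔐.isOpenEmbedding, hz, (𝔐.isConstructible_fibreDimAt_le k).compl⟩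
    refine ⟨PrimeSpectrum.comap π '' T₀, PrimeSpectrum.isConstructible_comap_image hπ hT₀, ?_, ?_⟩
    · intro x hx hk
      obtain ⟨z, rfl⟩ := hrange.ge hx
      refine ⟨z, fun hle => ?_, rfl⟩
      have h1 := (trd_le_fibreDimAt (g ≫ v) (x := z) rfl (specializes_refl z)).trans hle
      rw [trd_preimmersion_comp, hcomap, Nat.cast_le] at h1
      exact absurd h1 (Nat.not_le.2 hk)
    · rintro _ ⟨z, hz, rfl⟩
      obtain ⟨ζ, hfζ, hζz, -, hdim⟩ := exists_maxInFibre_fibreDimAt (g ≫ v) z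
      have h1 : ¬ FlatMor.fibreDimAt (g ≫ v) z ≤ (k : WithBot ℕ∞) := hz
      rw [hdim, Nat.cast_le, trd_preimmersion_comp] at h1
      refine ⟨g ζ, hrange.le ⟨ζ, (hcomap ζ).symm⟩, ?_, ?_, Nat.lt_of_not_le h1⟩
      · rw [← hcomap z]; exact hζz.map g.continuous
      · rw [← hcomap z, ← Scheme.Hom.comp_apply, ← Scheme.Hom.comp_apply]; exact hfζ
  choose T hTc hT1 hT2 using hpiece
  let TT : Set (Spec B) := ⋃ C ∈ D, T C
  have hTT : IsConstructible TT := IsConstructible.biUnion D.finite_toSet fun C _ => hTc C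
  have hV : IsLocallyConstructible (Z ∩ (EtAlgEasy.RelClosureSch.relCl v TT)ᶜ) :=
    hZ.isLocallyConstructible.inter (CMFlatLib.isLocallyConstructible_compl
      (EtAlgEasy.RelClosureSch.isLocallyConstructible_relCl v hTT.isLocallyConstructible))
  convert (FibEmbLib.isLocallyConstructible_image_dim_ge v hV k).isConstructible using 1
  ext p
  constructor
  · rintro ⟨x, ⟨hxZ, hmax⟩, rfl, hk⟩
    refine ⟨x, ⟨hxZ, ?_⟩, rfl, hk.ge⟩
    rintro ⟨x', hx', hfx, hxT⟩
    obtain ⟨C, hC, hxC⟩ := Set.mem_iUnion₂.1 hxT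
    obtain ⟨w, hwC, hwx, hfw, hkw⟩ := hT2 C x' hxC
    have hwZ : w ∈ Z := hD.le (Set.mem_iUnion₂.2 ⟨C, hC, hwC⟩)
    have := hmax w hwZ (hfw.trans hfx) (hwx.trans hx')
    subst this
    omega
  · rintro ⟨x, ⟨hxZ, hxT⟩, rfl, hk⟩
    obtain ⟨x₀, hmax, hs, hf⟩ := exists_maxOn_le v hxZ
    refine ⟨x₀, hmax, hf, le_antisymm ?_ (hk.trans (trd_le v hs hf))⟩
    by_contra hlt
    obtain ⟨C, hC, hxC⟩ := Set.mem_iUnion₂.1 (hD.ge hmax.1)
    exact hxT ⟨x₀, hs, hf, Set.mem_iUnion₂.2 ⟨C, hC, hT1 C x₀ hxC (not_le.1 hlt)⟩⟩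

variable (f : X ⟶ Y) [LocallyOfFinitePresentation f]

/-- The locus of fibres having a maximal point of `Z` of transcendence degree `k`. -/
theorem isLocallyConstructible_maxOn_trd [QuasiCompact f] {Z : Set X} (hZ : IsLocallyConstructible Z) (k : ℕ) :
    IsLocallyConstructible {y : Y | ∃ x, MaxOn f Z x ∧ f x = y ∧ trd f x = k} := by
  refine NearGen.isLocallyConstructible_of_affine _ fun U hU => ?_
  obtain ⟨s, hs, hcov⟩ := NearGen.exists_affines f hU
  let v : ∀ W : s, Spec Γ(X, W.1) ⟶ Spec Γ(Y, U) := fun W => Spec.map (f.appLE U W.1 (hs W.1 W.2).2)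
  haveI : ∀ W : s, LocallyOfFinitePresentation (v W) := fun W => by
    rw [HasRingHomProperty.Spec_iff (P := @LocallyOfFinitePresentation)]
    exact f.finitePresentation_appLE hU (hs W.1 W.2).1 (hs W.1 W.2).2
  have hW : ∀ W : s, IsConstructible {p : Spec Γ(Y, U) | ∃ x, MaxOn (v W) ((hs W.1 W.2).1.fromSpec ⁻¹' Z) x ∧
      v W x = p ∧ trd (v W) x = k} := fun W =>
    isConstructible_maxOn_trd (v W) (hZ.preimage_of_isOpenEmbedding (hs W.1 W.2).1.fromSpec.isOpenEmbedding).isConstructible k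
  have hw : ∀ W : s, v W ≫ hU.fromSpec = (hs W.1 W.2).1.fromSpec ≫ f := fun W =>
    IsAffineOpen.SpecMap_appLE_fromSpec f hU (hs W.1 W.2).1 _
  have hv : ∀ (W : s) q, hU.fromSpec (v W q) = f ((hs W.1 W.2).1.fromSpec q) := fun W q => by
    rw [← Scheme.Hom.comp_apply, hw W, Scheme.Hom.comp_apply]
  have htrd : ∀ (W : s) q, trd (v W) q = trd f ((hs W.1 W.2).1.fromSpec q) := fun W q => by
    haveI : LocallyOfFiniteType ((hs W.1 W.2).1.fromSpec ≫ f) := inferInstance
    rw [← trd_preimmersion_comp (hs W.1 W.2).1.fromSpec f q]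
    have h := FlatDim.resTrdegAt_comp (v W) hU.fromSpec q
    rw [FlatDim.resTrdegAt_preimmersion hU.fromSpec (v W q), zero_add, hw W, resTrdegAt_eq_trd, resTrdegAt_eq_trd] at h
    exact_mod_cast h.symm
  convert IsConstructible.iUnion hW using 1
  ext p
  simp only [Set.mem_preimage, Set.mem_ofPred_eq, Set.mem_iUnion]
  constructor
  · rintro ⟨x, ⟨hxZ, hmax⟩, hfx, hk⟩
    obtain ⟨W, hWs, hxW⟩ := hcov x (hfx ▸ hU.range_fromSpec.le ⟨p, rfl⟩)
    obtain ⟨q, rfl⟩ : x ∈ Set.range (hs W hWs).1.fromSpec := (hs W hWs).1.range_fromSpec.ge hxW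
    refine ⟨⟨W, hWs⟩, q, ⟨hxZ, fun w hw' hfw hwq => (hs W hWs).1.fromSpec.isOpenEmbedding.injective
      (hmax _ hw' ?_ (hwq.map (hs W hWs).1.fromSpec.continuous))⟩, ?_, (htrd ⟨W, hWs⟩ q).trans hk⟩
    · rw [← hv ⟨W, hWs⟩, ← hv ⟨W, hWs⟩, hfw]
    · exact hU.fromSpec.isOpenEmbedding.injective ((hv ⟨W, hWs⟩ q).trans hfx)
  · rintro ⟨W, q, ⟨hqZ, hmax⟩, rfl, hk⟩
    refine ⟨_, ⟨hqZ, fun w hw' hfw hwq => ?_⟩, (hv W q).symm, (htrd W q).symm.trans hk⟩
    obtain ⟨w, rfl⟩ : w ∈ Set.range (hs W.1 W.2).1.fromSpec :=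
      hwq.mem_open (hs W.1 W.2).1.fromSpec.isOpenEmbedding.isOpen_range ⟨q, rfl⟩
    rw [hmax w hw' (hU.fromSpec.isOpenEmbedding.injective (by rw [hv, hv]; exact hfw))
      ((hs W.1 W.2).1.fromSpec.isOpenEmbedding.isInducing.specializes_iff.1 hwq)]

/-- The transcendence degrees are bounded over an affine open of the base. -/
theorem exists_trd_bound [QuasiCompact f] {U : Y.Opens} (hU : IsAffineOpen U) :
    ∃ N : ℕ, ∀ x : X, f x ∈ U → trd f x ≤ N := by
  choose M hM using fun x : X => exists_model_self f x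
  obtain ⟨t, ht⟩ := (f.isCompact_preimage hU.isCompact).elim_finite_subcover (fun x => Set.range (M x).emb)
    (fun x => (M x).isOpenEmbedding.isOpen_range) (fun x _ => Set.mem_iUnion.2 ⟨x, hM x⟩)
  refine ⟨t.sup fun x => (M x).m, fun x hx => ?_⟩
  obtain ⟨x₀, hx₀, q, rfl⟩ := Set.mem_iUnion₂.1 (ht hx)
  obtain ⟨d, t', -, ht', hm⟩ := (M x₀).exists_dims q
  have h : FibreDepth.clDim f ((M x₀).emb q) = (t' : WithBot ℕ∞) := ht'
  rw [FibEmbLib.clDim_eq_trd, Nat.cast_inj] at h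
  rw [h]
  exact le_trans (by omega) (Finset.le_sup (f := fun x => (M x).m) hx₀)

end Groth.Agent.FibCompDimLib

namespace Groth.Agent.FibCompDimLib

open Groth.Agent.OpenDim

/-- The components of a fibre of `Z` correspond to the maximal points of `Z` in this fibre. -/
theorem image_dim_irreducibleComponents {X Y : Scheme.{u}} (f : X ⟶ Y) [LocallyOfFiniteType f] (Z : Set X) (s : Y)
    (hZs : IsLocallyClosed (Subtype.val ⁻¹' Z : Set ↥(⇑f ⁻¹' {s}))) :
    (fun T : Set ↥(Z ∩ ⇑f ⁻¹' {s}) => topologicalKrullDim ↥T) '' irreducibleComponents ↥(Z ∩ ⇑f ⁻¹' {s}) =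
      {d | ∃ x, MaxOn f Z x ∧ f x = s ∧ d = (trd f x : WithBot ℕ∞)} := by
  obtain ⟨U₁, C₁, hU₁, hC₁, heq⟩ := hZs
  obtain ⟨U, hU, rfl⟩ := isOpen_induced_iff.1 hU₁
  obtain ⟨C, hC, rfl⟩ := isClosed_induced_iff.1 hC₁
  have hS : Z ∩ ⇑f ⁻¹' {s} = C ∩ U ∩ ⇑f ⁻¹' {s} := by
    ext x
    constructor
    · rintro ⟨hxZ, hxs⟩
      have : (⟨x, hxs⟩ : ↥(⇑f ⁻¹' {s})) ∈ Subtype.val ⁻¹' U ∩ Subtype.val ⁻¹' C := heq.le hxZ
      exact ⟨⟨this.2, this.1⟩, hxs⟩
    · rintro ⟨⟨hxC, hxU⟩, hxs⟩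
      exact ⟨heq.ge (show (⟨x, hxs⟩ : ↥(⇑f ⁻¹' {s})) ∈ Subtype.val ⁻¹' U ∩ Subtype.val ⁻¹' C from ⟨hxU, hxC⟩), hxs⟩
  haveI : QuasiSober ↥(Z ∩ ⇑f ⁻¹' {s}) := quasiSober_inter_open f C hC U hU s _ hS
  have hdim : ∀ η : ↥(Z ∩ ⇑f ⁻¹' {s}),
      topologicalKrullDim ↥(closure ({η} : Set ↥(Z ∩ ⇑f ⁻¹' {s}))) = (trd f η.1 : WithBot ℕ∞) := by
    intro η
    refine le_antisymm ?_ ?_
    · haveI : QuasiSober ↥(closure ({η} : Set ↥(Z ∩ ⇑f ⁻¹' {s}))) :=
        isClosed_closure.isClosedEmbedding_subtypeVal.quasiSober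
      refine topologicalKrullDim_le_of_trd f (φ := fun w : ↥(closure ({η} : Set ↥(Z ∩ ⇑f ⁻¹' {s}))) => w.1.1)
        (IsEmbedding.subtypeVal.comp IsEmbedding.subtypeVal) (y := s) (fun w => w.1.2.2) fun w => ?_
      exact Nat.cast_le.2 (trd_le f ((specializes_iff_mem_closure.2 w.2).map continuous_subtype_val)
        (η.2.2.trans w.1.2.2.symm))
    · refine trd_le_topologicalKrullDim f (φ := fun w : ↥(closure ({η} : Set ↥(Z ∩ ⇑f ⁻¹' {s}))) => w.1.1)
        (IsEmbedding.subtypeVal.comp IsEmbedding.subtypeVal) ⟨U, hU⟩ (z := η.1) (hS.le η.2).1.2 fun x hx hηx hfx => ?_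
      have hxS : x ∈ Z ∩ ⇑f ⁻¹' {s} :=
        hS.ge ⟨⟨hηx.mem_closed hC (hS.le η.2).1.1, hx⟩, hfx.trans η.2.2⟩
      exact ⟨⟨⟨x, hxS⟩, specializes_iff_mem_closure.1 (IsEmbedding.subtypeVal.isInducing.specializes_iff.1 hηx)⟩, rfl⟩
  have hT0 : T0Space ↥(Z ∩ ⇑f ⁻¹' {s}) := inferInstance
  ext d
  constructor
  · rintro ⟨T, hT, rfl⟩
    obtain ⟨η, hη⟩ := QuasiSober.sober hT.1 (isClosed_of_mem_irreducibleComponents T hT)
    refine ⟨η.1, ⟨η.2.1, fun w hw hfw hwη => ?_⟩, η.2.2, ?_⟩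
    · let w' : ↥(Z ∩ ⇑f ⁻¹' {s}) := ⟨w, hw, hfw.trans η.2.2⟩
      have h1 : w' ⤳ η := IsEmbedding.subtypeVal.isInducing.specializes_iff.1 hwη
      have h2 : closure {w'} ≤ T := hT.2 isIrreducible_singleton.closure (hη.def ▸ h1.closure_subset)
      exact congrArg Subtype.val (h1.antisymm (hη.specializes (h2 (subset_closure rfl)))).eq
    · show topologicalKrullDim ↥T = _
      rw [← hη.def]
      exact hdim η
  · rintro ⟨x, ⟨hxZ, hmax⟩, hxs, rfl⟩
    let η : ↥(Z ∩ ⇑f ⁻¹' {s}) := ⟨x, hxZ, hxs⟩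
    refine ⟨closure {η}, ⟨isIrreducible_singleton.closure, fun T hT hle => ?_⟩, hdim η⟩
    obtain ⟨θ, hθ⟩ := QuasiSober.sober hT.closure isClosed_closure
    have h1 : θ ⤳ η := hθ.specializes (subset_closure (hle (subset_closure rfl)))
    have h2 : θ = η := Subtype.ext (hmax θ.1 θ.2.1 (θ.2.2.trans hxs.symm) (h1.map continuous_subtype_val))
    intro w hw
    rw [← h2]
    exact hθ.def.symm ▸ subset_closure hw

theorem biInter_lc {X : Type*} [TopologicalSpace X] (S : Finset ℕ) (E : ℕ → Set X)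
    (h : ∀ n, IsLocallyConstructible (E n)) : IsLocallyConstructible (⋂ n ∈ S, E n) := by
  classical
  induction S using Finset.induction with
  | empty =>
    intro x
    exact ⟨Set.univ, Filter.univ_mem, isOpen_univ, by simp [Topology.IsConstructible.univ]⟩
  | insert a s _ ih => rw [Finset.set_biInter_insert]; exact (h a).inter ih

/-- The level sets of the set of dimensions of the components of the fibres of `Z`. -/
theorem isLocallyConstructible_componentDims {X Y : Scheme.{u}} (f : X ⟶ Y) [LocallyOfFinitePresentation f]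
    [QuasiCompact f] {Z : Set X} (hZ : IsLocallyConstructible Z)
    (hZs : ∀ s : Y, IsLocallyClosed (Subtype.val ⁻¹' Z : Set ↥(⇑f ⁻¹' {s}))) (Φ : Set (WithBot ℕ∞)) :
    IsLocallyConstructible {s : Y |
      (fun T : Set ↥(Z ∩ ⇑f ⁻¹' {s}) => topologicalKrullDim ↥T) '' irreducibleComponents ↥(Z ∩ ⇑f ⁻¹' {s}) = Φ} := by
  classical
  simp only [fun s => image_dim_irreducibleComponents f Z s (hZs s)]
  refine NearGen.isLocallyConstructible_of_affine _ fun U hU => ?_
  obtain ⟨N, hN⟩ := exists_trd_bound f hU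
  let E : ℕ → Set Y := fun k => {y | ∃ x, MaxOn f Z x ∧ f x = y ∧ trd f x = k}
  by_cases hΦ : Φ ⊆ (fun k : ℕ => (k : WithBot ℕ∞)) '' {k | k ≤ N}
  · let G : ℕ → Set Y := fun k => if (k : WithBot ℕ∞) ∈ Φ then E k else (E k)ᶜ
    have hG : ∀ k, IsLocallyConstructible (G k) := fun k => by
      by_cases hk : (k : WithBot ℕ∞) ∈ Φ
      · rw [show G k = E k from if_pos hk]
        exact isLocallyConstructible_maxOn_trd f hZ k
      · rw [show G k = (E k)ᶜ from if_neg hk]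
        exact CMFlatLib.isLocallyConstructible_compl (isLocallyConstructible_maxOn_trd f hZ k)
    suffices key : hU.fromSpec ⁻¹' {s : Y | {d | ∃ x, MaxOn f Z x ∧ f x = s ∧ d = (trd f x : WithBot ℕ∞)} = Φ} =
        hU.fromSpec ⁻¹' (⋂ k ∈ Finset.range (N + 1), G k) by
      rw [key]
      exact IsLocallyConstructible.isConstructible
        ((biInter_lc (Finset.range (N + 1)) G hG).preimage_of_isOpenEmbedding hU.fromSpec.isOpenEmbedding)
    ext p
    simp only [Set.mem_preimage, Set.mem_ofPred_eq, Set.mem_iInter₂, Finset.mem_range]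
    constructor
    · intro h k hk
      by_cases hkΦ : (k : WithBot ℕ∞) ∈ Φ
      · rw [show G k = E k from if_pos hkΦ]
        obtain ⟨x, hx, hxs, he⟩ := h.ge hkΦ
        exact ⟨x, hx, hxs, (Nat.cast_inj.1 he).symm⟩
      · rw [show G k = (E k)ᶜ from if_neg hkΦ]
        rintro ⟨x, hx, hxs, rfl⟩
        exact hkΦ (h.le ⟨x, hx, hxs, rfl⟩)
    · intro h
      ext d
      constructor
      · rintro ⟨x, hx, hxs, rfl⟩
        by_contra hne
        have hxN := hN x (hxs ▸ hU.range_fromSpec.le ⟨p, rfl⟩)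
        have h1 := h (trd f x) (Nat.lt_succ_of_le hxN)
        rw [show G (trd f x) = (E (trd f x))ᶜ from if_neg hne] at h1
        exact h1 ⟨x, hx, hxs, rfl⟩
      · intro hd
        obtain ⟨k, hk, rfl⟩ := hΦ hd
        have h1 := h k (Nat.lt_succ_of_le hk)
        rw [show G k = E k from if_pos hd] at h1
        obtain ⟨x, hx, hxs, hxk⟩ := h1
        exact ⟨x, hx, hxs, by rw [hxk]⟩
  · suffices key : hU.fromSpec ⁻¹' {s : Y | {d | ∃ x, MaxOn f Z x ∧ f x = s ∧ d = (trd f x : WithBot ℕ∞)} = Φ} = ∅ by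
      rw [key]
      exact IsConstructible.empty
    refine Set.eq_empty_of_forall_notMem fun p hp => hΦ ?_
    rw [← show _ = Φ from hp]
    rintro d ⟨x, -, hxs, rfl⟩
    exact ⟨_, hN x (hxs ▸ hU.range_fromSpec.le ⟨p, rfl⟩), rfl⟩

end Groth.Agent.FibCompDimLib
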